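import Cfsg.Agent.NormalRankGL.Plane
import Cfsg.Prelude.Def_Transfer

/-!
# The normal 2-rank of `GL_n(q)`, `q` odd
-/

set_option autoImplicit false

namespace CfsgLib.NormalRankGL

open Matrix Equiv CfsgLib.SylowTwoAb

/-- The largest rank of a normal elementary abelian 2-subgroup is `r`. -/
def NRank (S : Type*) [Group S] (r : ℕ) : Prop :=
  (∃ E : Subgroup S, E.Normal ∧ Cfsg.IsElementaryAbelian 2 E ∧ 2 ^ r ≤ Nat.card E) ∧
    ∀ E : Subgroup S, E.Normal → Cfsg.IsElementaryAbelian 2 E → Nat.card E ≤ 2 ^ r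

theorem elem_map {S S' : Type*} [Group S] [Group S'] (e : S ≃* S') {E : Subgroup S}
    (hE : Cfsg.IsElementaryAbelian 2 E) : Cfsg.IsElementaryAbelian 2 (E.map e.toMonoidHom) := by
  obtain ⟨hc, he⟩ := hE
  refine ⟨⟨⟨?_⟩⟩, ?_⟩
  · rintro ⟨_, x, hx, rfl⟩ ⟨_, y, hy, rfl⟩
    refine Subtype.ext ?_
    show e x * e y = e y * e x
    rw [← map_mul, ← map_mul]
    exact congrArg (fun z : E => e z.1) (hc.is_comm.comm ⟨x, hx⟩ ⟨y, hy⟩)
  · rintro _ ⟨x, hx, rfl⟩
    rw [← map_pow, he x hx, map_one]

theorem nRank_congr {S S' : Type*} [Group S] [Group S'] (e : S ≃* S') {r : ℕ} (h : NRank S r) :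
    NRank S' r := by
  obtain ⟨⟨E, hn, he, hE⟩, hup⟩ := h
  refine ⟨⟨E.map e.toMonoidHom, hn.map _ e.surjective, elem_map e he, ?_⟩, fun E' hn' he' => ?_⟩
  · rwa [Subgroup.card_map_of_injective e.injective]
  · have := hup (E'.map e.symm.toMonoidHom) (hn'.map _ e.symm.surjective) (elem_map e.symm he')
    rwa [Subgroup.card_map_of_injective e.symm.injective] at this

/-- An injective homomorphism from a 2-group of full order gives every Sylow 2-subgroup. -/
theorem nRank_sylow {G W : Type*} [Group G] [Finite G] [Group W] (f : W →* G)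
    (hf : Function.Injective f) (hcard : Nat.card W = 2 ^ (Nat.card G).factorization 2) {r : ℕ}
    (h : NRank W r) (S : Sylow 2 G) : NRank ↥(S : Subgroup G) r := by
  have : Fact (Nat.Prime 2) := ⟨Nat.prime_two⟩
  let R : Sylow 2 G := Sylow.ofCard f.range
    (by rw [← Nat.card_congr (MonoidHom.ofInjective hf).toEquiv, hcard])
  exact nRank_congr (((MonoidHom.ofInjective hf).trans (Sylow.equiv R S))) h

/-- An elementary abelian 2-subgroup of a linear group in dimension `n` has order at most `2 ^ n`. -/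
theorem card_le_of_hom {F : Type*} [Field F] (h2 : (2 : F) ≠ 0) {ι : Type*} [Fintype ι] [DecidableEq ι]
    {S : Type*} [Group S] [Finite S] (M : S →* Matrix ι ι F) (hM : Function.Injective M)
    {E : Subgroup S} (hE : Cfsg.IsElementaryAbelian 2 E) : Nat.card E ≤ 2 ^ Fintype.card ι := by
  classical
  obtain ⟨b, hb⟩ := CfsgLib.TwoRank.exists_eigenbasis h2 M E hE.1 hE.2
  exact (CfsgLib.TwoRank.card_le_two_pow hM hb).trans
    (Nat.pow_le_pow_right two_pos Finset.card_image_le)

section wreathBase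

variable {m : ℕ} {D : Type*} [Group D] {T : Subgroup (Perm (Fin m))}

theorem wr_mul_left (a b : Wr D T) (i : Fin m) :
    (a * b).left i = a.left i * b.left (a.right.1⁻¹ i) := rfl

theorem wr_inv_left (a : Wr D T) (i : Fin m) : a⁻¹.left i = (a.left (a.right.1 i))⁻¹ := by
  show (a.left ((a.right⁻¹).1⁻¹ i))⁻¹ = _
  rw [InvMemClass.coe_inv, inv_inv]

theorem wr_mul_left_of_one {a : Wr D T} (ha : a.right = 1) (b : Wr D T) (i : Fin m) :
    (a * b).left i = a.left i * b.left i := by
  rw [wr_mul_left, ha, OneMemClass.coe_one, inv_one, Perm.one_apply]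

theorem conj_left_one {w z : Wr D T} (hz : z.right = 1) (i : Fin m) :
    (w * z * w⁻¹).left i = w.left i * z.left (w.right.1⁻¹ i) * (w.left i)⁻¹ := by
  rw [wr_mul_left, wr_mul_left, SemidirectProduct.mul_right, hz, mul_one, wr_inv_left]
  rw [show w.right.1 (w.right.1⁻¹ i) = i by simp]

theorem conj_right_one {w z : Wr D T} (hz : z.right = 1) : (w * z * w⁻¹).right = 1 := by
  simp [hz]

end wreathBase

section ThreeModFour

variable {F : Type*} [Field F] {m r : ℕ} {D : Subgroup (GL (Fin 2) F)} {T : Subgroup (Perm (Fin m))}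

/-- The model elements with scalar blocks `±1`. -/
def signSub (D : Subgroup (GL (Fin 2) F)) (T : Subgroup (Perm (Fin m))) (r : ℕ) :
    Subgroup (Model D T r) where
  carrier := {w | w.1.right = 1 ∧ ∀ i, (w.1.left i).1.val = 1 ∨ (w.1.left i).1.val = -1}
  one_mem' := ⟨rfl, fun i => Or.inl rfl⟩
  mul_mem' := by
    rintro x y ⟨hx, hx'⟩ ⟨hy, hy'⟩
    refine ⟨by simp [hx, hy], fun i => ?_⟩
    have h : (x * y).1.left i = x.1.left i * y.1.left i := wr_mul_left_of_one hx y.1 i
    rw [h, Subgroup.coe_mul, Units.val_mul]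
    rcases hx' i with a | a <;> rcases hy' i with b | b <;> simp [a, b]
  inv_mem' := by
    rintro x ⟨hx, hx'⟩
    refine ⟨by simp [hx], fun i => ?_⟩
    have h : x⁻¹.1.left i = (x.1.left i)⁻¹ := by
      rw [Prod.fst_inv, wr_inv_left, hx, OneMemClass.coe_one, Perm.one_apply]
    rw [h, InvMemClass.coe_inv]
    rcases hx' i with a | a
    · left; rw [show (x.1.left i).1 = 1 from Units.ext a]; simp
    · right; rw [show (x.1.left i).1 = -1 from Units.ext (by simpa using a)]; simp

theorem signSub_normal : (signSub D T r).Normal := by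
  refine ⟨fun z hz w => ⟨?_, fun i => ?_⟩⟩
  · simpa using conj_right_one (w := w.1) hz.1
  · have h : (w * z * w⁻¹).1.left i = w.1.left i * z.1.left (w.1.right.1⁻¹ i) * (w.1.left i)⁻¹ :=
      conj_left_one (w := w.1) hz.1 i
    rw [h]
    simp only [Subgroup.coe_mul, InvMemClass.coe_inv, Units.val_mul]
    rcases hz.2 (w.1.right.1⁻¹ i) with a | a <;> rw [a]
    · left; rw [mul_one, Units.mul_inv]
    · right; rw [mul_neg, mul_one, neg_mul, Units.mul_inv]

theorem signSub_elem : Cfsg.IsElementaryAbelian 2 (signSub D T r) := by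
  have key : ∀ x ∈ signSub D T r, ∀ y ∈ signSub D T r, x * y = y * x := by
    rintro x ⟨hx, hx'⟩ y ⟨hy, hy'⟩
    refine Prod.ext (SemidirectProduct.ext (funext fun i => Subtype.ext (Units.ext ?_)) ?_) (mul_comm _ _)
    · rw [Prod.fst_mul, Prod.fst_mul, wr_mul_left_of_one hx, wr_mul_left_of_one hy, Subgroup.coe_mul,
        Subgroup.coe_mul, Units.val_mul, Units.val_mul]
      rcases hx' i with a | a <;> simp [a]
    · simp [hx, hy]
  refine ⟨⟨⟨fun x y => Subtype.ext (key _ x.2 _ y.2)⟩⟩, ?_⟩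
  rintro x ⟨hx, hx'⟩
  refine Prod.ext (SemidirectProduct.ext (funext fun i => Subtype.ext (Units.ext ?_)) ?_) ?_
  · rw [pow_two, Prod.fst_mul, wr_mul_left_of_one hx, Subgroup.coe_mul, Units.val_mul]
    rcases hx' i with a | a <;> simp [a]
  · simp [pow_two, hx]
  · rw [pow_two]
    exact funext fun j => Int.units_mul_self _

theorem card_signSub_le [Finite D] [Finite T] :
    Nat.card (signSub D T r) ≤ 2 ^ (m + r) := by
  classical
  let f : signSub D T r → (Fin m → Bool) × (Fin r → ℤˣ) :=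
    fun w => (fun i => decide ((w.1.1.left i).1.val = 1), w.1.2)
  have hf : Function.Injective f := by
    rintro ⟨x, hx, hx'⟩ ⟨y, hy, hy'⟩ h
    obtain ⟨h1, h2⟩ := Prod.mk.injEq .. ▸ h
    refine Subtype.ext (Prod.ext (SemidirectProduct.ext (funext fun i => Subtype.ext (Units.ext ?_))
      (hx.trans hy.symm)) h2)
    have h3 := congrFun h1 i
    simp only [decide_eq_decide] at h3
    by_cases ha : (x.1.left i).1.val = 1
    · rw [ha, h3.1 ha]
    · rw [(hx' i).resolve_left ha, (hy' i).resolve_left fun hb => ha (h3.2 hb)]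
  have := Nat.card_le_card_of_injective f hf
  simpa [Nat.card_prod, Nat.card_fun, Nat.card_eq_fintype_card (α := ℤˣ), ← pow_add] using this

theorem le_card_signSub [Finite D] [Finite T] (h2 : (2 : F) ≠ 0) (hneg : (-1 : GL (Fin 2) F) ∈ D) :
    2 ^ (m + r) ≤ Nat.card (signSub D T r) := by
  classical
  let sgn : Bool → D := fun c => if c then 1 else ⟨-1, hneg⟩
  have : Finite (signSub D T r) := Finite.of_injective (fun w : signSub D T r =>
    ((w.1.1.left, w.1.1.right), w.1.2)) fun x y h => by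
      simp only [Prod.mk.injEq] at h
      exact Subtype.ext (Prod.ext (SemidirectProduct.ext h.1.1 h.1.2) h.2)
  let g : (Fin m → Bool) × (Fin r → ℤˣ) → signSub D T r := fun c =>
    ⟨(SemidirectProduct.inl fun i => sgn (c.1 i), c.2), rfl, fun i => by
      show (sgn (c.1 i)).1.val = 1 ∨ _
      cases hci : c.1 i
      · exact Or.inr (by simp [sgn, hci])
      · exact Or.inl (by simp [sgn, hci])⟩
  have hne : (1 : D) ≠ ⟨-1, hneg⟩ := fun h => by
    have h' := congrArg (fun x : D => x.1.val 0 0) h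
    simp at h'
    exact h2 (by linear_combination h')
  have hg : Function.Injective g := by
    intro c e h
    have h1 := congrArg (fun x : signSub D T r => x.1) h
    simp only [g, Prod.mk.injEq] at h1
    refine Prod.ext (funext fun i => ?_) h1.2
    have h3 := congrFun (SemidirectProduct.inl_injective h1.1) i
    simp only [sgn] at h3
    cases hc : c.1 i <;> cases he : e.1 i <;> rw [hc, he] at h3
    all_goals simp only [Bool.false_eq_true, if_false, if_true] at h3 ⊢
    all_goals first | exact absurd h3 hne | exact absurd h3.symm hne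
  have := Nat.card_le_card_of_injective g hg
  simpa [Nat.card_prod, Nat.card_fun, Nat.card_eq_fintype_card (α := ℤˣ), ← pow_add] using this

theorem le_signSub [Fintype F] (h34 : Fintype.card F % 4 = 3) (hD : IsPGroup 2 D)
    (hD16 : 16 ≤ Nat.card D) (E : Subgroup (Model D T r)) (hn : E.Normal)
    (hE : Cfsg.IsElementaryAbelian 2 E) : E ≤ signSub D T r := by
  have hright : ∀ e ∈ E, e.1.right = 1 := by
    intro e he
    obtain ⟨d, hd⟩ := exists_sq_ne_one h34 D hD hD16
    refine Subtype.ext (Equiv.ext fun k => ?_)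
    by_contra hk
    have hk' : e.1.right.1⁻¹ k ≠ k := fun h => hk (by
      show e.1.right.1 k = k
      conv_lhs => rw [← h]
      simp)
    let s : Model D T r := (SemidirectProduct.inl (Pi.mulSingle k d), 1)
    have hcomm : e * (s * e⁻¹ * s⁻¹) ∈ E := mul_mem he (hn.conj_mem _ (inv_mem he) s)
    rw [← mul_assoc, ← mul_assoc] at hcomm
    have h1 : (e * s * e⁻¹ * s⁻¹).1.right = 1 := by simp [s]
    have h2 : (e * s * e⁻¹ * s⁻¹).1.left k = d⁻¹ := by
      show (e.1 * s.1 * e.1⁻¹ * s.1⁻¹).left k = _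
      have hs : s.1.right = 1 := rfl
      have h0 : (e.1 * s.1 * e.1⁻¹).right = 1 := conj_right_one hs
      rw [wr_mul_left_of_one h0, conj_left_one hs, wr_inv_left, hs, OneMemClass.coe_one, Perm.one_apply]
      show e.1.left k * (Pi.mulSingle k d : Fin m → D) (e.1.right.1⁻¹ k) * (e.1.left k)⁻¹ *
        ((Pi.mulSingle k d : Fin m → D) k)⁻¹ = d⁻¹
      rw [Pi.mulSingle_eq_of_ne hk', Pi.mulSingle_eq_same, mul_one, mul_inv_cancel, one_mul]
    have h3 := congrArg (fun x : Model D T r => x.1.left k) (hE.2 _ hcomm)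
    change (((e * s * e⁻¹ * s⁻¹) ^ 2 : Model D T r)).1.left k = 1 at h3
    rw [pow_two, Prod.fst_mul, wr_mul_left_of_one h1, h2] at h3
    exact hd (by rw [← _root_.inv_inj, _root_.mul_inv_rev, h3, inv_one])
  intro e he
  refine ⟨hright e he, fun i => ?_⟩
  let ev : E →* D :=
    { toFun := fun x => x.1.1.left i
      map_one' := rfl
      map_mul' := fun x y => by
        show (x.1 * y.1).1.left i = _
        exact wr_mul_left_of_one (hright x.1 x.2) y.1.1 i }
  have : ev.range.Normal := by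
    refine ⟨?_⟩
    rintro _ ⟨x, rfl⟩ d
    let s : Model D T r := (SemidirectProduct.inl (Pi.mulSingle i d), 1)
    refine ⟨⟨s * x.1 * s⁻¹, hn.conj_mem _ x.2 s⟩, ?_⟩
    show (s * x.1 * s⁻¹).1.left i = d * x.1.1.left i * d⁻¹
    show (s.1 * x.1.1 * s.1⁻¹).left i = _
    rw [conj_left_one (hright x.1 x.2)]
    simp [s]
  refine eq_one_or_neg_one h34 D hD hD16 ev.range ⟨⟨?_⟩⟩ ?_ (a := e.1.left i) ⟨⟨e, he⟩, rfl⟩
  · rintro ⟨_, x, rfl⟩ ⟨_, y, rfl⟩
    refine Subtype.ext ?_
    show ev x * ev y = ev y * ev x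
    rw [← map_mul, ← map_mul, hE.1.is_comm.comm x y]
  · rintro _ ⟨x, rfl⟩
    rw [← map_pow, show x ^ 2 = 1 from Subtype.ext (by simpa using hE.2 x.1 x.2), map_one]

end ThreeModFour

end CfsgLib.NormalRankGL
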