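import Cfsg.Agent.NormalRankGL.Model

/-!
# The monomial Sylow 2-subgroup of `GL_n(q)`, `q ≡ 1 (mod 4)`
-/

set_option autoImplicit false

namespace CfsgLib.NormalRankGL

open Matrix Equiv CfsgLib.SylowTwoAb

variable {F : Type*} [Field F] {n : ℕ} {C : Subgroup Fˣ} {T : Subgroup (Perm (Fin n))}

/-- The linear map of a monomial element. -/
def monoLin (w : Wr C T) : (Fin n → F) →ₗ[F] (Fin n → F) where
  toFun v i := ((w.left i : C) : Fˣ).1 * v (w.right.1⁻¹ i)
  map_add' u v := funext fun i => by simp [mul_add]
  map_smul' t v := funext fun i => by simp [mul_left_comm]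

theorem monoLin_apply (w : Wr C T) (v : Fin n → F) (i : Fin n) :
    monoLin w v i = ((w.left i : C) : Fˣ).1 * v (w.right.1⁻¹ i) := rfl

/-- The monomial matrices. -/
noncomputable def monoHom : Wr C T →* GL (Fin n) F :=
  MonoidHom.toHomUnits
    { toFun := fun w => LinearMap.toMatrix' (monoLin w)
      map_one' := by
        rw [show monoLin (1 : Wr C T) = LinearMap.id from
          LinearMap.ext fun v => funext fun i => by simp [monoLin_apply], LinearMap.toMatrix'_id]
      map_mul' := fun w z => by
        rw [← LinearMap.toMatrix'_comp]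
        congr 1
        refine LinearMap.ext fun v => funext fun i => ?_
        rw [LinearMap.comp_apply, monoLin_apply, monoLin_apply, monoLin_apply, wr_mul_left,
          SemidirectProduct.mul_right, Subgroup.coe_mul, Units.val_mul, mul_assoc, Subgroup.coe_mul]
        simp }

theorem monoHom_injective : Function.Injective (monoHom (C := C) (T := T)) := by
  rw [injective_iff_map_eq_one]
  intro w hw
  have hv : ∀ v, monoLin w v = v := fun v => by
    have h : LinearMap.toMatrix' (monoLin w) = 1 := congrArg Units.val hw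
    rw [← Matrix.toLin'_toMatrix' (monoLin w), h, Matrix.toLin'_one, LinearMap.id_apply]
  refine SemidirectProduct.ext (funext fun i => Subtype.ext (Units.ext ?_))
    (Subtype.ext (Equiv.ext fun k => ?_))
  · have h := congrFun (hv fun _ => 1) i
    simpa [monoLin_apply] using h
  · show w.right.1 k = k
    by_contra hk
    have h := congrFun (hv (Pi.single k 1)) k
    rw [monoLin_apply, Pi.single_eq_same, Pi.single_eq_of_ne, mul_zero] at h
    · exact zero_ne_one h
    · exact fun h' => hk (by conv_lhs => rw [← h']; simp)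

/-- The monomial elements with trivial permutation and entries `±1`. -/
def diagSign (C : Subgroup Fˣ) (T : Subgroup (Perm (Fin n))) : Subgroup (Wr C T) where
  carrier := {w | w.right = 1 ∧ ∀ i, w.left i * w.left i = 1}
  one_mem' := ⟨rfl, fun i => one_mul _⟩
  mul_mem' := by
    rintro x y ⟨hx, hx'⟩ ⟨hy, hy'⟩
    refine ⟨by simp [hx, hy], fun i => ?_⟩
    rw [wr_mul_left_of_one hx, mul_mul_mul_comm, hx', hy', one_mul]
  inv_mem' := by
    rintro x ⟨hx, hx'⟩
    refine ⟨by simp [hx], fun i => ?_⟩
    rw [wr_inv_left, hx, OneMemClass.coe_one, Perm.one_apply, ← mul_inv, hx', inv_one]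

theorem diagSign_normal : (diagSign C T).Normal := by
  refine ⟨fun z hz w => ⟨conj_right_one hz.1, fun i => ?_⟩⟩
  rw [conj_left_one hz.1, mul_inv_cancel_comm]
  exact hz.2 _

theorem diagSign_elem : Cfsg.IsElementaryAbelian 2 (diagSign C T) := by
  refine ⟨⟨⟨fun x y => Subtype.ext (SemidirectProduct.ext (funext fun i => ?_) ?_)⟩⟩, fun x hx => ?_⟩
  · show (x.1 * y.1).left i = (y.1 * x.1).left i
    rw [wr_mul_left_of_one x.2.1, wr_mul_left_of_one y.2.1, mul_comm]
  · show (x.1 * y.1).right = (y.1 * x.1).right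
    simp [x.2.1, y.2.1]
  · refine SemidirectProduct.ext (funext fun i => ?_) (by simp [pow_two, hx.1])
    rw [pow_two, wr_mul_left_of_one hx.1, hx.2]
    rfl

theorem le_card_diagSign [Finite C] [Finite T] (h2 : (2 : F) ≠ 0) (hneg : (-1 : Fˣ) ∈ C) :
    2 ^ n ≤ Nat.card (diagSign C T) := by
  have : Finite (Wr C T) := Finite.of_equiv _ SemidirectProduct.equivProd.symm
  have hne : (1 : C) ≠ ⟨-1, hneg⟩ := fun h => by
    have h' := congrArg (fun x : C => x.1.val) h
    simp at h'
    exact h2 (by linear_combination h')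
  let sgn : Bool → C := fun c => bif c then 1 else ⟨-1, hneg⟩
  let g : (Fin n → Bool) → diagSign C T := fun c =>
    ⟨SemidirectProduct.inl fun i => sgn (c i), rfl, fun i => by
      show sgn (c i) * sgn (c i) = 1
      cases c i
      · exact Subtype.ext (by simp [sgn])
      · exact one_mul _⟩
  have hg : Function.Injective g := fun c e h => funext fun i => by
    have h3 : sgn (c i) = sgn (e i) := congrArg (fun x : diagSign C T => x.1.left i) h
    revert h3
    cases c i <;> cases e i <;> intro h3
    · rfl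
    · exact absurd h3.symm hne
    · exact absurd h3 hne
    · rfl
  simpa [Nat.card_fun] using Nat.card_le_card_of_injective g hg

theorem val_pow_sub_one [Fintype F] (h14 : Fintype.card F % 4 = 1) {j : ℕ} (hj : j ≠ 0) :
    padicValNat 2 (Fintype.card F ^ j - 1) = padicValNat 2 (Fintype.card F - 1) + padicValNat 2 j := by
  have : Fact (Nat.Prime 2) := ⟨Nat.prime_two⟩
  have hF : Odd (Fintype.card F) := Nat.odd_iff.2 (by omega)
  have h3 := CfsgLib.SylowTwoAb.three_le_card hF
  have h := CfsgLib.SylowTwoAb.val_plus_add_minus hF h3 hj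
  have h' := CfsgLib.SylowTwoAb.val_plus_add_minus hF h3 (m := 1) one_ne_zero
  rw [pow_one, padicValNat_one_right, add_zero] at h'
  have hm : Fintype.card F ^ j % 4 = 1 := by rw [Nat.pow_mod, h14, one_pow, Nat.one_mod]
  rw [CfsgLib.SylowTwoAb.val_of_mod_four (n := Fintype.card F ^ j + 1) (by omega)] at h
  rw [CfsgLib.SylowTwoAb.val_of_mod_four (n := Fintype.card F + 1) (by omega)] at h'
  omega

theorem val_card_GL [Fintype F] (h14 : Fintype.card F % 4 = 1) :
    padicValNat 2 (Nat.card (GL (Fin n) F)) =
      n * padicValNat 2 (Fintype.card F - 1) + padicValNat 2 n.factorial := by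
  have : Fact (Nat.Prime 2) := ⟨Nat.prime_two⟩
  have hne : ∀ i, Fintype.card F ^ (i + 1) - 1 ≠ 0 := fun i => by
    have : 2 ≤ Fintype.card F ^ (i + 1) := le_trans Fintype.one_lt_card (Nat.le_self_pow (by omega) _)
    omega
  rw [CfsgLib.Linear.card_GL, Fintype.card_fin, CfsgLib.Linear.prod_pow_sub_pow,
    padicValNat.mul (pow_ne_zero _ Fintype.card_ne_zero) (Finset.prod_ne_zero_iff.2 fun i _ => hne i),
    padicValNat.eq_zero_of_not_dvd, zero_add]
  · induction n with
    | zero => simp
    | succ n ih =>
      rw [Finset.prod_range_succ, padicValNat.mul (Finset.prod_ne_zero_iff.2 fun i _ => hne i) (hne n),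
        ih, val_pow_sub_one h14 n.succ_ne_zero, Nat.factorial_succ,
        padicValNat.mul n.succ_ne_zero n.factorial_ne_zero]
      ring
  · intro h
    have := Nat.prime_two.dvd_of_dvd_pow h
    omega

theorem nRank_one_mod_four [Fintype F] (h14 : Fintype.card F % 4 = 1)
    (S : Sylow 2 (GL (Fin n) F)) : NRank ↥(S : Subgroup (GL (Fin n) F)) n := by
  have : Fact (Nat.Prime 2) := ⟨Nat.prime_two⟩
  have h2 : (2 : F) ≠ 0 := Ring.two_ne_zero fun h => by
    have := FiniteField.even_card_of_char_two h
    omega
  obtain ⟨Sy⟩ : Nonempty (Sylow 2 Fˣ) := Sylow.nonempty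
  obtain ⟨T, hT, -⟩ := exists_perm_sylow n
  have hneg : (-1 : Fˣ) ∈ (Sy : Subgroup Fˣ) := by
    have hp : IsPGroup 2 (Subgroup.zpowers (-1 : Fˣ)) :=
      IsPGroup.of_card (n := 1) (by
        rw [Nat.card_zpowers, pow_one]
        exact orderOf_eq_prime (by simp) fun h => h2 (by
          have h' := congrArg Units.val h
          simp at h'
          linear_combination -h'))
    exact (Sy.is_maximal' (Sy.2.to_sup_of_normal_left hp) le_sup_left) ▸
      Subgroup.mem_sup_right (Subgroup.mem_zpowers _)
  refine nRank_sylow (monoHom (C := (Sy : Subgroup Fˣ)) (T := T)) monoHom_injective ?_ ?_ S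
  · rw [SemidirectProduct.card, Nat.card_fun, Nat.card_fin, Sy.card_eq_multiplicity, hT, ← pow_mul,
      ← pow_add, Nat.factorization_def _ Nat.prime_two, Nat.factorization_def _ Nat.prime_two,
      CfsgLib.Linear.card_units, val_card_GL h14]
    congr 1
    ring
  · refine ⟨⟨diagSign _ T, diagSign_normal, diagSign_elem, le_card_diagSign h2 hneg⟩, fun E _ hE => ?_⟩
    have : Finite (Wr (Sy : Subgroup Fˣ) T) := Finite.of_equiv _ SemidirectProduct.equivProd.symm
    have h := card_le_of_hom h2 ((Units.coeHom _).comp (monoHom (C := (Sy : Subgroup Fˣ)) (T := T)))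
      (Units.val_injective.comp monoHom_injective) hE
    simpa using h

theorem nRank_three_mod_four [Fintype F] (h34 : Fintype.card F % 4 = 3)
    (S : Sylow 2 (GL (Fin n) F)) : NRank ↥(S : Subgroup (GL (Fin n) F)) ((n + 1) / 2) := by
  have : Fact (Nat.Prime 2) := ⟨Nat.prime_two⟩
  have hF : Odd (Fintype.card F) := Nat.odd_iff.2 (by omega)
  have h2 : (2 : F) ≠ 0 := Ring.two_ne_zero fun h => by
    have := FiniteField.even_card_of_char_two h
    omega
  obtain ⟨m, r, hr, rfl⟩ : ∃ m r, r ≤ 1 ∧ n = 2 * m + r := ⟨n / 2, n % 2, by omega, by omega⟩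
  obtain ⟨D⟩ : Nonempty (Sylow 2 (GL (Fin 2) F)) := Sylow.nonempty
  obtain ⟨T, hT, -⟩ := exists_perm_sylow m
  have hD : Nat.card D = 2 ^ (padicValNat 2 (Fintype.card F ^ 2 - 1) + 1) := by
    rw [D.card_eq_multiplicity, Nat.factorization_def _ Nat.prime_two, val_card_GL_two hF, val_pred h34]
  have hD16 : 16 ≤ Nat.card D := by
    rw [hD]
    exact le_trans (by norm_num)
      (Nat.pow_le_pow_right two_pos (Nat.succ_le_succ (three_le_val_sq_pred h34)))
  have hne1 : (-1 : GL (Fin 2) F) ≠ 1 := fun h => by
    have h' := congrArg (fun x : GL (Fin 2) F => x.val 0 0) h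
    simp at h'
    exact h2 (by linear_combination -h')
  have hneg : (-1 : GL (Fin 2) F) ∈ (D : Subgroup _) := by
    have hp : IsPGroup 2 (Subgroup.zpowers (-1 : GL (Fin 2) F)) :=
      IsPGroup.of_card (n := 1) (by
        rw [Nat.card_zpowers, pow_one]
        exact orderOf_eq_prime (by simp) hne1)
    have : (Subgroup.zpowers (-1 : GL (Fin 2) F)).Normal := by
      refine ⟨fun z hz g => ?_⟩
      obtain ⟨k, rfl⟩ := Subgroup.mem_zpowers_iff.1 hz
      rw [← conj_zpow, mul_neg, mul_one, neg_mul, mul_inv_cancel]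
      exact Subgroup.zpow_mem_zpowers _ _
    exact (D.is_maximal' (D.2.to_sup_of_normal_right hp) le_sup_left) ▸
      Subgroup.mem_sup_right (Subgroup.mem_zpowers _)
  let e : GL (Idx m r) F ≃* GL (Fin (2 * m + r)) F :=
    CfsgLib.Linear.glReindex (Fintype.equivFinOfCardEq (by simp))
  refine nRank_sylow (e.toMonoidHom.comp (blockHom (D := (D : Subgroup _)) (T := T) (r := r)))
    (e.injective.comp (blockHom_injective h2)) ?_ ?_ S
  · rw [card_model, hD, hT, ← pow_mul, ← pow_add, ← pow_add, Nat.factorization_def _ Nat.prime_two,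
      CfsgLib.Linear.card_GL, Fintype.card_fin, CfsgLib.Linear.prod_pow_sub_pow,
      padicValNat.mul (pow_ne_zero _ Fintype.card_ne_zero) (Finset.prod_ne_zero_iff.2 fun i _ => by
        have : 2 ≤ Fintype.card F ^ (i + 1) :=
          le_trans Fintype.one_lt_card (Nat.le_self_pow (by omega) _)
        omega),
      padicValNat.eq_zero_of_not_dvd (n := Fintype.card F ^ _) (fun h => by
        have := Nat.prime_two.dvd_of_dvd_pow h
        omega), zero_add]
    congr 1
    obtain rfl | rfl : r = 0 ∨ r = 1 := by omega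
    · simp only [Nat.add_zero]
      rw [val_GL_two_mul hF m, val_pred h34]
      ring
    · rw [Finset.prod_range_succ, padicValNat.mul (Finset.prod_ne_zero_iff.2 fun i _ => by
        have : 2 ≤ Fintype.card F ^ (i + 1) :=
          le_trans Fintype.one_lt_card (Nat.le_self_pow (by omega) _)
        omega) (by
        have : 2 ≤ Fintype.card F ^ (2 * m + 1) :=
          le_trans Fintype.one_lt_card (Nat.le_self_pow (by omega) _)
        omega), val_GL_two_mul hF m, val_pred h34,
        val_of_mod_four (n := Fintype.card F ^ (2 * m + 1) - 1) (by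
          rcases pow_mod_four hF (2 * m + 1) with ⟨-, he | he⟩ | ⟨h4, -, -⟩
          · exact absurd he (Nat.not_even_two_mul_add_one m)
          · omega
          · omega)]
      ring
  · have hfin : Finite (Model (D : Subgroup (GL (Fin 2) F)) T r) := by
      have : Finite (Wr (D : Subgroup (GL (Fin 2) F)) T) :=
        Finite.of_equiv _ SemidirectProduct.equivProd.symm
      infer_instance
    have hmr : m + r = (2 * m + r + 1) / 2 := by omega
    refine ⟨⟨signSub _ T r, signSub_normal, signSub_elem, ?_⟩, fun E hn hE => ?_⟩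
    · exact hmr ▸ le_card_signSub h2 hneg
    · exact hmr ▸ (Subgroup.card_le_of_le (le_signSub h34 D.2 hD16 E hn hE)).trans card_signSub_le

end CfsgLib.NormalRankGL
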