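import Cfsg.Agent.SylowTwoAb.LinearModel
import Cfsg.Agent.TwoRank.Basic

/-!
# Normal elementary abelian subgroups of Sylow 2-subgroups of `GL₂(q)`, `q ≡ 3 (mod 4)`
-/

set_option autoImplicit false

namespace CfsgLib.NormalRankGL

open Matrix

variable {F : Type*} [Field F]

/-- `v₂ |GL₂(q)|`. -/
theorem val_card_GL_two [Fintype F] (hF : Odd (Fintype.card F)) :
    padicValNat 2 (Nat.card (GL (Fin 2) F)) =
      padicValNat 2 (Fintype.card F ^ 2 - 1) + padicValNat 2 (Fintype.card F - 1) := by
  have : Fact (Nat.Prime 2) := ⟨Nat.prime_two⟩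
  have h3 := CfsgLib.SylowTwoAb.three_le_card hF
  rw [CfsgLib.Linear.card_GL, Fintype.card_fin, CfsgLib.Linear.prod_pow_sub_pow,
    padicValNat.mul (pow_ne_zero _ Fintype.card_ne_zero) (Finset.prod_ne_zero_iff.2 fun i _ => by
      have : 3 ≤ Fintype.card F ^ (i + 1) := h3.trans (Nat.le_self_pow (by omega) _)
      omega),
    padicValNat.eq_zero_of_not_dvd (n := Fintype.card F ^ (2 * (2 - 1) / 2))
      (by simpa [← even_iff_two_dvd] using Nat.not_even_iff_odd.2 hF), zero_add]
  have h := CfsgLib.SylowTwoAb.val_GL_two_mul (F := F) hF 1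
  simpa using h

omit [Field F] in
theorem val_pred [Fintype F] (h34 : Fintype.card F % 4 = 3) :
    padicValNat 2 (Fintype.card F - 1) = 1 :=
  CfsgLib.SylowTwoAb.val_of_mod_four (by omega)

omit [Field F] in
theorem three_le_val_sq_pred [Fintype F] (h34 : Fintype.card F % 4 = 3) :
    3 ≤ padicValNat 2 (Fintype.card F ^ 2 - 1) := by
  have : Fact (Nat.Prime 2) := ⟨Nat.prime_two⟩
  obtain ⟨k, hk⟩ : ∃ k, Fintype.card F = 4 * k + 3 := ⟨Fintype.card F / 4, by omega⟩
  have hd : 2 ^ 3 ∣ Fintype.card F ^ 2 - 1 := ⟨2 * k ^ 2 + 3 * k + 1, by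
    rw [hk]; apply Nat.sub_eq_of_eq_add; ring⟩
  refine (padicValNat_dvd_iff_le ?_).1 hd
  have : 2 ≤ Fintype.card F ^ 2 := le_trans (by omega) (Nat.le_self_pow two_ne_zero _)
  omega

section
variable [Fintype F]

/-- In a large 2-subgroup of `GL₂(q)`, `q ≡ 3 (mod 4)`, the normal elementary abelian subgroups
consist of scalars. -/
theorem eq_one_or_neg_one (h34 : Fintype.card F % 4 = 3) (D : Subgroup (GL (Fin 2) F))
    (hD : IsPGroup 2 D) (hD16 : 16 ≤ Nat.card D) (A : Subgroup D) [A.Normal]
    (hc : IsMulCommutative A) (he : ∀ a ∈ A, a ^ 2 = 1) {a : D} (ha : a ∈ A) :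
    a.1.val = 1 ∨ a.1.val = -1 := by
  classical
  have : Fact (Nat.Prime 2) := ⟨Nat.prime_two⟩
  have h2 : (2 : F) ≠ 0 := Ring.two_ne_zero fun h => by
    have := FiniteField.even_card_of_char_two h
    omega
  let M : D →* Matrix (Fin 2) (Fin 2) F := (Units.coeHom _).comp D.subtype
  have hM : ∀ d : D, M d = d.1.val := fun _ => rfl
  have hM1 : Function.Injective M := fun x y h => Subtype.ext (Units.ext h)
  obtain ⟨b, hb⟩ := CfsgLib.TwoRank.exists_eigenbasis h2 M A hc he
  have hd : ∀ x ∈ A, ∃ d : Fin 2 → F, (∀ i, d i = 1 ∨ d i = -1) ∧ ∀ i, M x *ᵥ b i = d i • b i := by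
    intro x hx
    refine ⟨fun i => if M x *ᵥ b i = b i then 1 else -1, fun i => ?_, fun i => ?_⟩
    · by_cases h : M x *ᵥ b i = b i
      · exact Or.inl (if_pos h)
      · exact Or.inr (if_neg h)
    · by_cases h : M x *ᵥ b i = b i
      · dsimp only; rw [if_pos h, one_smul]; exact h
      · dsimp only; rw [if_neg h, neg_smul, one_smul]; exact (hb i x hx).resolve_left h
  have hext : ∀ (X Y : Matrix (Fin 2) (Fin 2) F), (∀ i, X *ᵥ b i = Y *ᵥ b i) → X = Y :=
    fun X Y h => Matrix.toLin'.injective (b.ext fun i => by rw [toLin'_apply, toLin'_apply, h i])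
  obtain ⟨s, hs, hsb⟩ := hd a ha
  by_contra hns
  have hs01 : s 0 ≠ s 1 := by
    intro h
    have hall : ∀ i, s i = s 0 := fun i => by fin_cases i; exacts [rfl, h.symm]
    rcases hs 0 with h0 | h0
    · exact hns (Or.inl (hext _ _ fun i => by rw [← hM, hsb, hall, h0, one_smul, one_mulVec]))
    · exact hns (Or.inr (hext _ _ fun i => by
        rw [← hM, hsb, hall, h0, neg_smul, one_smul, neg_mulVec, one_mulVec]))
  -- elements commuting with `a` are diagonal
  have hdiag : ∀ c : D, c * a = a * c → ∀ i, M c *ᵥ b i = (b.repr (M c *ᵥ b i) i) • b i := by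
    intro c hca i
    have h1 : M a *ᵥ (M c *ᵥ b i) = s i • (M c *ᵥ b i) := by
      rw [mulVec_mulVec, ← map_mul, ← hca, map_mul, ← mulVec_mulVec, hsb, mulVec_smul]
    conv_lhs => rw [← b.sum_repr (M c *ᵥ b i)]
    rw [Finset.sum_eq_single i]
    · intro j _ hji
      have h2' : (b.repr (M a *ᵥ (M c *ᵥ b i))) j = s j * (b.repr (M c *ᵥ b i)) j := by
        conv_lhs => rw [← b.sum_repr (M c *ᵥ b i), Matrix.mulVec_sum]
        simp only [mulVec_smul, hsb, smul_smul]
        rw [b.repr_sum_self fun k => (b.repr (M c *ᵥ b i)) k * s k]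
        ring
      rw [h1, map_smul, Finsupp.smul_apply, smul_eq_mul] at h2'
      have hne : s i - s j ≠ 0 := by
        rw [sub_ne_zero]
        intro h
        apply hs01
        fin_cases i <;> fin_cases j <;> first | exact absurd rfl hji | exact h | exact h.symm
      have h4 : (s i - s j) * (b.repr (M c *ᵥ b i)) j = 0 := by rw [sub_mul, h2', sub_self]
      rw [(mul_eq_zero.1 h4).resolve_left hne, zero_smul]
    · simp
  -- the conjugates of `a`
  let S : Set D := {x | M x = M a ∨ M x = -(M a)}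
  have hconj : ∀ d : D, d * a * d⁻¹ ∈ S := by
    intro d
    have hxA : d * a * d⁻¹ ∈ A := Subgroup.Normal.conj_mem ‹A.Normal› a ha d
    obtain ⟨t, ht, htb⟩ := hd _ hxA
    have ht01 : t 0 ≠ t 1 := by
      intro h
      have hall : ∀ i, t i = t 0 := fun i => by fin_cases i; exacts [rfl, h.symm]
      have hX : M (d * a * d⁻¹) = t 0 • (1 : Matrix (Fin 2) (Fin 2) F) :=
        hext _ _ fun i => by rw [htb, hall, smul_mulVec, one_mulVec]
      have hA' : M a = t 0 • (1 : Matrix (Fin 2) (Fin 2) F) := by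
        have := congrArg (fun X => M d⁻¹ * X * M d) hX
        simp only [Algebra.mul_smul_comm, Algebra.smul_mul_assoc, mul_one, ← map_mul] at this
        rw [show d⁻¹ * (d * a * d⁻¹) * d = a by group, inv_mul_cancel, map_one] at this
        exact this
      rw [hM] at hA'
      rcases ht 0 with h0 | h0
      · exact hns (Or.inl (by rw [hA', h0, one_smul]))
      · exact hns (Or.inr (by rw [hA', h0, neg_smul, one_smul]))
    have key : t 0 = s 0 ∧ t 1 = s 1 ∨ t 0 = -s 0 ∧ t 1 = -s 1 := by
      rcases hs 0 with a0 | a0 <;> rcases hs 1 with a1 | a1 <;> rcases ht 0 with c0 | c0 <;>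
        rcases ht 1 with c1 | c1 <;> rw [a0, a1] at hs01 <;> rw [c0, c1] at ht01 <;>
        rw [a0, a1, c0, c1] <;>
        first | exact absurd rfl hs01 | exact absurd rfl ht01 | exact Or.inl ⟨rfl, rfl⟩ |
          exact Or.inr ⟨(neg_neg _).symm, rfl⟩ | exact Or.inr ⟨rfl, (neg_neg _).symm⟩
    rcases key with ⟨k0, k1⟩ | ⟨k0, k1⟩
    · have k : ∀ i, t i = s i := fun i => by fin_cases i; exacts [k0, k1]
      exact Or.inl (hext _ _ fun i => by rw [htb, hsb, k])
    · have k : ∀ i, t i = -s i := fun i => by fin_cases i; exacts [k0, k1]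
      exact Or.inr (hext _ _ fun i => by rw [htb, neg_mulVec, hsb, k, neg_smul])
  have hScard : Nat.card S ≤ 2 := by
    have hf : Function.Injective fun x : S => decide (M x.1 = M a) := by
      intro x y hxy
      simp only [decide_eq_decide] at hxy
      refine Subtype.ext (hM1 ?_)
      by_cases h : M x.1 = M a
      · rw [h, hxy.1 h]
      · rw [x.2.resolve_left h, y.2.resolve_left (fun hy => h (hxy.2 hy))]
    simpa using Nat.card_le_card_of_injective _ hf
  let C : Subgroup D := Subgroup.centralizer {a}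
  have hindex : C.index ≤ 2 := by
    rw [Subgroup.index]
    let φ : D ⧸ C → S := Quotient.lift (fun d : D => (⟨d * a * d⁻¹, hconj d⟩ : S)) fun x y hxy => by
      have hxy' : x⁻¹ * y ∈ C := QuotientGroup.leftRel_apply.1 hxy
      have h := Subgroup.mem_centralizer_singleton_iff.1 hxy'
      apply Subtype.ext
      show x * a * x⁻¹ = y * a * y⁻¹
      calc x * a * x⁻¹ = x * (a * (x⁻¹ * y)) * y⁻¹ := by group
        _ = x * ((x⁻¹ * y) * a) * y⁻¹ := by rw [h]
        _ = y * a * y⁻¹ := by group
    refine (Nat.card_le_card_of_injective φ ?_).trans hScard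
    intro x y
    induction x using QuotientGroup.induction_on with
    | H x =>
      induction y using QuotientGroup.induction_on with
      | H y =>
        intro h
        have h' : x * a * x⁻¹ = y * a * y⁻¹ := congrArg Subtype.val h
        refine QuotientGroup.eq.2 (Subgroup.mem_centralizer_singleton_iff.2 ?_)
        calc x⁻¹ * y * a = x⁻¹ * (y * a * y⁻¹) * y := by group
          _ = x⁻¹ * (x * a * x⁻¹) * y := by rw [h']
          _ = a * (x⁻¹ * y) := by group
  let ψ : C →* (Fin 2 → F) :=
    { toFun := fun c i => b.repr (M c.1 *ᵥ b i) i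
      map_one' := funext fun i => by
        show b.repr (M 1 *ᵥ b i) i = 1
        rw [map_one, one_mulVec, b.repr_self, Finsupp.single_eq_same]
      map_mul' := fun c e => funext fun i => by
        show b.repr (M (c.1 * e.1) *ᵥ b i) i = _
        rw [map_mul, ← mulVec_mulVec, hdiag e.1 (Subgroup.mem_centralizer_singleton_iff.1 e.2) i,
          mulVec_smul, map_smul, Finsupp.smul_apply, smul_eq_mul, mul_comm]
        rfl }
  have hψ : Function.Injective ψ.toHomUnits := by
    intro c e h
    have h' : ψ c = ψ e := congrArg Units.val h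
    refine Subtype.ext (hM1 (hext _ _ fun i => ?_))
    rw [hdiag c.1 (Subgroup.mem_centralizer_singleton_iff.1 c.2) i,
      hdiag e.1 (Subgroup.mem_centralizer_singleton_iff.1 e.2) i]
    exact congrArg (· • b i) (congrFun h' i)
  have hdvd : Nat.card C ∣ (Fintype.card F - 1) ^ 2 := by
    have h := Subgroup.card_dvd_of_injective _ hψ
    rw [Nat.card_congr (MulEquiv.piUnits (M := fun _ : Fin 2 => F)).toEquiv, Nat.card_pi] at h
    simpa only [CfsgLib.Linear.card_units, Finset.prod_const, Finset.card_univ, Fintype.card_fin]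
      using h
  obtain ⟨k, hk⟩ := IsPGroup.iff_card.1 (hD.to_subgroup C)
  have h4 : Nat.card C ≤ 4 := by
    rw [hk] at hdvd ⊢
    have := (padicValNat_dvd_iff_le (pow_ne_zero 2 (by omega))).1 hdvd
    rw [padicValNat.pow, val_pred h34] at this
    exact le_trans (Nat.pow_le_pow_right two_pos this) (by norm_num)
  have := C.card_mul_index
  nlinarith

/-- A large 2-subgroup of `GL₂(q)` has an element whose square is not `1`. -/
theorem exists_sq_ne_one (h34 : Fintype.card F % 4 = 3) (D : Subgroup (GL (Fin 2) F))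
    (hD : IsPGroup 2 D) (hD16 : 16 ≤ Nat.card D) : ∃ d : D, d * d ≠ 1 := by
  classical
  by_contra h
  push Not at h
  have hinv : ∀ x : D, x⁻¹ = x := fun x => inv_eq_of_mul_eq_one_right (h x)
  have hc : IsMulCommutative (⊤ : Subgroup D) := ⟨⟨fun x y => Subtype.ext (by
    show x.1 * y.1 = y.1 * x.1
    calc x.1 * y.1 = (x.1 * y.1)⁻¹ := (hinv _).symm
      _ = y.1⁻¹ * x.1⁻¹ := mul_inv_rev _ _
      _ = y.1 * x.1 := by rw [hinv, hinv])⟩⟩
  have hf : Function.Injective fun d : D => decide (d.1.val = 1) := by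
    intro x y hxy
    simp only [decide_eq_decide] at hxy
    refine Subtype.ext (Units.ext ?_)
    have key := fun d : D => eq_one_or_neg_one h34 D hD hD16 ⊤ hc
      (fun a _ => by rw [pow_two, h a]) (Subgroup.mem_top d)
    by_cases hx : x.1.val = 1
    · rw [hx, hxy.1 hx]
    · rw [(key x).resolve_left hx, (key y).resolve_left fun hy => hx (hxy.2 hy)]
  have := Nat.card_le_card_of_injective _ hf
  rw [Nat.card_eq_fintype_card (α := Bool), Fintype.card_bool] at this
  omega

end

end CfsgLib.NormalRankGL
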